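import Cfsg.Agent.H854.Loc.Main
import Cfsg.Agent.H800.ME.Final
import Cfsg.Agent.H852.IMPerm
import Cfsg.Agent.H419.Spor.M12
import Cfsg.Agent.H387.VO.Main
import Cfsg.Agent.S2085
import Cfsg.Agent.MTwelveType.SylowModel
import Cfsg.Agent.MonsterP.Equiv

/-!
# S4987, the Monster, `p = 11` (helper854)

`x` of order 11, `C(x)/⟨x⟩ ≅ M12`. The characters of `M12` of degree 11 (vanishing at the elements of order 6 with one
fixed point) and 55 (of 5-defect zero) give elements of orders 66 and 55.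
-/

set_option autoImplicit false

namespace Cfsg.Agent.H854.Loc.M11

open Cfsg Subgroup Cfsg.Agent.Blocks.Basic
open Cfsg.Agent.LThreeMB (XX Zx)
open Cfsg.Agent.H800.ME.Final
open Cfsg.Agent.BpSpor.MBigModel (MG card_M chart)
open Cfsg.Agent.H419.Spor.M12

/-- Degree 55. -/
theorem exists_55 : ∃ θ : IrrCharacter Spor.M12, charDegree (θ : Spor.M12 → ℂ) = 55 := by
  have h5 : MulAction.IsMultiplyPretransitive Spor.M12 Pts 5 := by
    constructor
    intro x y
    let x' : Fin 5 ↪ GolayPt := x.trans (Function.Embedding.subtype _)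
    let y' : Fin 5 ↪ GolayPt := y.trans (Function.Embedding.subtype _)
    obtain ⟨g, hg, -⟩ := Cfsg.Agent.S0384.result Spor.squareDodecad Cfsg.Agent.Schreier.MEleven.squareDodecad_mem x' y'
      (fun i => (x i).2) (fun i => (y i).2)
    refine ⟨⟨g.1.1, g.1.2, g.2⟩, ?_⟩
    apply DFunLike.ext
    intro i
    exact Subtype.ext (hg i)
  have hc : Nat.card Pts = 12 := by
    rw [Nat.card_eq_fintype_card]
    decide +kernel
  have h4 : MulAction.IsMultiplyPretransitive Spor.M12 Pts 4 :=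
    MulAction.isMultiplyPretransitive_of_le (n := 5) (by norm_num) (by rw [hc]; norm_num)
  have hfin : Finite Spor.M12 := Nat.finite_of_card_ne_zero (by rw [Cfsg.Agent.MTwelveType.SylowModel.card_M12]; norm_num)
  have := Fintype.ofFinite Spor.M12
  obtain ⟨⟨χ, hχ⟩, -⟩ := Cfsg.Agent.H852.IMPerm.four (G := Spor.M12) (X := Pts) (by rw [hc]; norm_num)
  refine ⟨χ, ?_⟩
  rw [hc] at hχ
  exact charDegree_of_eq hχ

theorem factor_11 : (95040 : ℕ).factorization 11 = 1 := by
  rw [show (95040 : ℕ) = 11 ^ 1 * 8640 by norm_num, Nat.factorization_mul (by norm_num) (by norm_num),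
    Nat.Prime.factorization_pow (by norm_num), Finsupp.add_apply, Finsupp.single_eq_same,
    Nat.factorization_eq_zero_of_not_dvd (by norm_num)]

theorem factor_5 : (95040 : ℕ).factorization 5 = 1 := by
  rw [show (95040 : ℕ) = 5 ^ 1 * 19008 by norm_num, Nat.factorization_mul (by norm_num) (by norm_num),
    Nat.Prime.factorization_pow (by norm_num), Finsupp.add_apply, Finsupp.single_eq_same,
    Nat.factorization_eq_zero_of_not_dvd (by norm_num)]

theorem f55_11 : (55 : ℕ).factorization 11 = 1 := by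
  rw [show (55 : ℕ) = 11 ^ 1 * 5 by norm_num, Nat.factorization_mul (by norm_num) (by norm_num),
    Nat.Prime.factorization_pow (by norm_num), Finsupp.add_apply, Finsupp.single_eq_same,
    Nat.factorization_eq_zero_of_not_dvd (by norm_num)]

theorem f55_5 : (55 : ℕ).factorization 5 = 1 := by
  rw [show (55 : ℕ) = 5 ^ 1 * 11 by norm_num, Nat.factorization_mul (by norm_num) (by norm_num),
    Nat.Prime.factorization_pow (by norm_num), Finsupp.add_apply, Finsupp.single_eq_same,
    Nat.factorization_eq_zero_of_not_dvd (by norm_num)]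

theorem f11_11 : (11 : ℕ).factorization 11 = 1 := by
  rw [Nat.Prime.factorization (by norm_num), Finsupp.single_eq_same]

/-- Degree 11, zero at all images of `x6`. -/
theorem exists_11 : ∃ θ : IrrCharacter Spor.M12, charDegree (θ : Spor.M12 → ℂ) = 11 ∧
    ∀ α : MulAut Spor.M12, (θ : Spor.M12 → ℂ) (α x6) = 0 := by
  obtain ⟨θ, hθ⟩ := exists_th
  refine ⟨θ, ?_, fun α => ?_⟩
  · apply charDegree_of_eq
    rw [hθ]
    have h1 : fx ((1 : Spor.M12) : Equiv.Perm GolayPt) = 12 := by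
      show fx (1 : Equiv.Perm GolayPt) = 12
      decide +kernel
    rw [h1]
    norm_num
  rcases mem_or α with ⟨m, rfl⟩ | ⟨m, rfl⟩
  · have h1 : (θ : Spor.M12 → ℂ) (MulAut.conj m x6) = (θ : Spor.M12 → ℂ) x6 :=
      Characters.Core.isIrr_isClassFunction θ.2 x6 m
    rw [h1, hθ]
    have h3 : fx (x6 : Spor.M12) = 1 := by
      show fx w6 = 1
      decide +kernel
    rw [h3]
    simp
  · have h1 : (θ : Spor.M12 → ℂ) ((MulAut.conj m * bt) x6) = (θ : Spor.M12 → ℂ) (bt x6) :=
      Characters.Core.isIrr_isClassFunction θ.2 (bt x6) m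
    rw [h1, hθ]
    have h3 : fx (bt x6 : Spor.M12) = 1 := by
      show fx (projInv * w6 * projInv⁻¹) = 1
      decide +kernel
    rw [h3]
    simp

/-- The automorphisms of the model are inner. -/
theorem inner_MG (α : MulAut MG) : ∃ g : MG, ∀ x, α x = g * x * g⁻¹ := by
  obtain ⟨e⟩ := Cfsg.Agent.MonsterP.Equiv.equiv
  have h1 : Subsingleton (Out Spor.Monster) := (Nat.card_eq_one_iff_unique.1 Cfsg.Agent.S2085.result).1
  obtain ⟨γ, hγ⟩ : ∃ γ : MulAut Spor.Monster, γ = (e.trans α).trans e.symm := ⟨_, rfl⟩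
  have h2 : (QuotientGroup.mk γ : Out Spor.Monster) = QuotientGroup.mk 1 := Subsingleton.elim _ _
  rw [QuotientGroup.eq, mul_one, inv_mem_iff] at h2
  obtain ⟨g, hg⟩ := h2
  refine ⟨e g, fun x => ?_⟩
  have h3 : γ (e.symm x) = g * e.symm x * g⁻¹ := by
    rw [← hg]
    rfl
  have h4 : γ (e.symm x) = e.symm (α x) := by
    rw [hγ]
    show e.symm (α (e (e.symm x))) = _
    rw [MulEquiv.apply_symm_apply]
  rw [h4] at h3
  have h5 := congrArg e h3
  rw [MulEquiv.apply_symm_apply] at h5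
  rw [h5]
  show e (g * e.symm x * g⁻¹) = e g * x * (e g)⁻¹
  have h6 : e (e.symm x) = x := e.apply_symm_apply x
  have h7 : e (g * e.symm x * g⁻¹) = e g * e (e.symm x) * (e g)⁻¹ := by
    rw [e.map_mul, e.map_mul, map_inv]
  rw [h7, h6]

theorem two_van_MG : H387.VO.TwoVan 11 MG := by
  have h11 : Fact (Nat.Prime 11) := ⟨prime11⟩
  have h5 : Fact (Nat.Prime 5) := ⟨by norm_num⟩
  have hfin : Finite MG := Cfsg.Agent.BpSpor.MBigModel.finite
  obtain ⟨x0, hx0, hpx⟩ := exists_x
  have hxo : orderOf (x0 : MG) = 11 := by rw [Subgroup.orderOf_coe, hx0]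
  have hd := dvd_XX hxo
  obtain ⟨e⟩ := Cfsg.Agent.H800.ME.Twelve.iso chart hx0 hpx hd
  obtain ⟨x, hx⟩ : ∃ x : MG, x = (x0 : MG) := ⟨_, rfl⟩
  rw [← hx] at hxo hd e
  -- the projection
  let π : centralizer ({x} : Set MG) →* Spor.M12 := (e : XX x →* Spor.M12).comp (QuotientGroup.mk' (Zx x))
  have hπ : Function.Surjective π := e.surjective.comp (QuotientGroup.mk'_surjective _)
  have hker : ∀ y, π y = 1 ↔ (y : MG) ∈ zpowers x := by
    intro y
    have h1 : π y = 1 ↔ y ∈ Zx x := by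
      show e (QuotientGroup.mk y) = 1 ↔ _
      rw [map_eq_one_iff e e.injective, QuotientGroup.eq_one_iff]
    rw [h1, Zx, Subgroup.mem_zpowers_iff, Subgroup.mem_zpowers_iff]
    constructor
    · rintro ⟨k, hk⟩
      exact ⟨k, congrArg Subtype.val hk⟩
    · rintro ⟨k, hk⟩
      exact ⟨k, Subtype.ext hk⟩
  have haut : ∀ α : MulAut MG, ∃ g : MG, g * α x * g⁻¹ ∈ zpowers x := by
    intro α
    obtain ⟨g, hg⟩ := inner_MG α
    refine ⟨g⁻¹, ?_⟩
    rw [hg]
    have h1 : g⁻¹ * (g * x * g⁻¹) * g⁻¹⁻¹ = x := by group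
    rw [h1]
    exact mem_zpowers x
  have hcard := Cfsg.Agent.MTwelveType.SylowModel.card_M12
  -- the element of order `6` of the centralizer
  obtain ⟨θ, hθ1, hθv⟩ := exists_11
  obtain ⟨η, hη⟩ := exists_55
  -- lifting an element of order prime to 11
  have hlift : ∀ w : Spor.M12, ¬ 11 ∣ orderOf w → ∃ y : centralizer ({x} : Set MG), π y = w ∧ orderOf y = orderOf w := by
    intro w hw
    obtain ⟨y, hy⟩ := hπ w
    -- `y ^ n ∈ ⟨x⟩`
    have hn : (y : MG) ^ orderOf w ∈ zpowers x := by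
      have h1 := (hker (y ^ orderOf w)).1 (by rw [map_pow, hy, pow_orderOf_eq_one])
      exact h1
    have hy11 : y ^ (orderOf w * 11) = 1 := by
      apply Subtype.ext
      have h1 : ((y : MG) ^ orderOf w) ^ 11 = 1 := by
        obtain ⟨k, hk⟩ := mem_zpowers_iff.1 hn
        rw [← hk, ← zpow_natCast, ← zpow_mul, mul_comm, zpow_mul, zpow_natCast, ← hxo, pow_orderOf_eq_one, one_zpow]
      show (y : MG) ^ (orderOf w * 11) = 1
      rw [pow_mul, h1]
    -- `a = 11 b`, `a ≡ 1 mod n`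
    have hcop : Nat.Coprime 11 (orderOf w) := (Nat.Prime.coprime_iff_not_dvd prime11).2 hw
    obtain ⟨a, ha1, ha2⟩ := Nat.chineseRemainder hcop 0 1
    have ha11 : 11 ∣ a := (Nat.modEq_zero_iff_dvd).1 ha1
    have hπa : π (y ^ a) = w := by
      rw [map_pow, hy]
      have : w ^ a = w ^ 1 := (pow_eq_pow_iff_modEq).2 ha2
      rw [this, pow_one]
    refine ⟨y ^ a, hπa, ?_⟩
    apply Nat.dvd_antisymm
    · apply orderOf_dvd_of_pow_eq_one
      obtain ⟨b, hb⟩ := ha11
      rw [← pow_mul, hb]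
      have : 11 * b * orderOf w = (orderOf w * 11) * b := by ring
      rw [this, pow_mul, hy11, one_pow]
    · rw [← hπa]
      exact orderOf_map_dvd π _
  obtain ⟨y6, hy6, hy6o⟩ := hlift x6 (by rw [x6_order]; norm_num)
  have hfin12 : Finite Spor.M12 := Nat.finite_of_card_ne_zero (by rw [hcard]; norm_num)
  obtain ⟨w5, hw5⟩ := exists_prime_orderOf_dvd_card' (G := Spor.M12) 5 (by rw [hcard]; norm_num)
  obtain ⟨y5, hy5, hy5o⟩ := hlift w5 (by rw [hw5]; norm_num)
  rw [x6_order] at hy6o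
  rw [hw5] at hy5o
  have hv6 := vz (p := 11) hxo π hπ hker θ (by rw [hθ1, hcard, factor_11, f11_11]) haut y6
    (by rw [hy6o]; norm_num) (fun α => by rw [hy6]; exact hθv α)
  have hv5 := vz_dz (p := 11) (q := 5) hxo π hπ hker η (by rw [hη, hcard, factor_11, f55_11])
    (by rw [hη, hcard, factor_5, f55_5]) haut y5 (by rw [hy5o]; norm_num) (by rw [hy5, hw5])
  have ho : ∀ y : centralizer ({x} : Set MG), (orderOf y).Coprime 11 → orderOf (x * (y : MG)) = 11 * orderOf y := by
    intro y hy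
    have hc : Commute x (y : MG) := (mem_centralizer_singleton_iff.1 y.2).symm
    rw [hc.orderOf_mul_eq_mul_orderOf_of_coprime (by rw [hxo, Subgroup.orderOf_coe]; exact hy.symm), hxo,
      Subgroup.orderOf_coe]
  have h66 : orderOf (x * (y6 : MG)) = 66 := by rw [ho y6 (by rw [hy6o]; norm_num), hy6o]
  have h55 : orderOf (x * (y5 : MG)) = 55 := by rw [ho y5 (by rw [hy5o]; norm_num), hy5o]
  exact H387.VO.TwoVan.of_order (by rw [h66]; norm_num) (by rw [h55]; norm_num) hv6 hv5
    (by rw [h66, h55]; norm_num)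

/-- **The row of the Monster for `p = 11`.** -/
theorem two_m_11 {K : Type*} [Group K] (h : Spor.IsoM K) : H387.VO.TwoVan 11 K := by
  obtain ⟨e⟩ := h
  obtain ⟨f⟩ := Cfsg.Agent.MonsterP.Equiv.equiv
  exact two_van_MG.mulEquiv (f.symm.trans e.symm)

end Cfsg.Agent.H854.Loc.M11
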