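import Cfsg.Agent.H854.Loc.Ne
import Cfsg.Agent.S0919
import Cfsg.Agent.S0918
import Cfsg.Agent.Blocks.CentralizerSum

/-!
# Zeros of characters at `z y`, `z` of order `p`, from a character of `p`-defect zero of `C(z)/⟨z⟩` (helper854)

Let `z` have order `p` and let `θ` be an irreducible character of `Q = C(z)/⟨z⟩` of `p`-defect zero. Then some
irreducible character of `G` vanishes at all `z ^ j * y` with `z ^ j ≠ 1`, `y ∈ C(z)` of order prime to `p` such that
`θ` vanishes at all images of `y` under automorphisms of `Q`.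

(`χ` is any character of the block with the root block of `θ`; second main theorem.)

* `exists_char` : the statement for `P C(P)`;
* `exists_char'` : for a surjection `C(z) → Q` with kernel `⟨z⟩`;
* `vz` : `z * y` is a `VZ` element if every automorphism maps `z` into a conjugate of `⟨z⟩`;
* `vz_dz` : in particular if `θ` is also of `q`-defect zero and `q` divides the order of the image of `y`.
-/

set_option autoImplicit false

namespace Cfsg.Agent.H854.Loc

open Cfsg Cfsg.Agent.Blocks.Basic Cfsg.Agent.Blocks.Local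
open Cfsg.Agent.Characters.Core
open Cfsg.Agent.Blocks.ExtendedFMT
open Cfsg.Agent.Blocks
open scoped ComplexConjugate

variable {G : Type*} [Group G] [Finite G] {p : ℕ} [hp : Fact p.Prime]

theorem zpowers_eq {P : Subgroup G} (hc : Nat.card P = p) {z : G} (hz : z ∈ P) (hz1 : z ≠ 1) :
    Subgroup.zpowers z = P := by
  apply Subgroup.eq_of_le_of_card_ge (by rw [Subgroup.zpowers_le]; exact hz)
  rw [hc]
  have h1 : Nat.card (Subgroup.zpowers z) ∣ p := by
    rw [← hc]
    exact Subgroup.card_dvd_of_le (by rw [Subgroup.zpowers_le]; exact hz)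
  rcases (Nat.dvd_prime hp.out).1 h1 with h | h
  · rw [Nat.card_zpowers, orderOf_eq_one_iff] at h
    exact absurd h hz1
  · exact h.ge

omit [Finite G] in
theorem centralizer_zpowers (z : G) :
    Subgroup.centralizer ((Subgroup.zpowers z : Subgroup G) : Set G) = Subgroup.centralizer ({z} : Set G) := by
  apply le_antisymm
  · exact Subgroup.centralizer_le (Set.singleton_subset_iff.2 (Subgroup.mem_zpowers z))
  · intro c hc
    rw [Subgroup.mem_centralizer_iff]
    intro y hy
    obtain ⟨k, rfl⟩ := Subgroup.mem_zpowers_iff.1 hy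
    have h1 : Commute c z := Subgroup.mem_centralizer_singleton_iff.1 hc
    exact (h1.symm.zpow_left k).eq

theorem LL_eq_centralizer {P : Subgroup G} (hc : Nat.card P = p) {z : G} (hz : z ∈ P) (hz1 : z ≠ 1) :
    LL P = Subgroup.centralizer ({z} : Set G) := by
  rw [LL_eq hc, ← centralizer_zpowers z, zpowers_eq hc hz hz1]

/-- **Zeros from a local character of defect zero.** -/
theorem exists_char {P : Subgroup G} (hc : Nat.card P = p)
    (θ : IrrCharacter (LL P ⧸ PL P))
    (hθ : (charDegree (θ : LL P ⧸ PL P → ℂ)).factorization p = (Nat.card (LL P ⧸ PL P)).factorization p) :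
    ∃ χ : IrrCharacter G, ∀ z ∈ P, z ≠ 1 → ∀ y : LL P, ¬ p ∣ orderOf y →
      (∀ n : Subgroup.normalizer (P : Set G), (θ : LL P ⧸ PL P → ℂ) (QuotientGroup.mk (conjN P n y)) = 0) →
      (χ : G → ℂ) (z * y) = 0 := by
  classical
  obtain ⟨M, hM⟩ := Knorr.exists_isPModular p
  have hprime : M.IsPrime := isPrime_of_isPModular hM
  have hPp : IsPGroup p P := isPGroup_of_card hc
  have hFL : Fintype (LL P) := Fintype.ofFinite _
  have hFG : Fintype G := Fintype.ofFinite _
  have := finite_irr (G := LL P)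
  have := Fintype.ofFinite (IrrCharacter (LL P))
  set b := blockOf M (infl θ : LL P → ℂ) with hb
  have hbB : IsPBlock M b := ⟨_, rfl⟩
  have hCL : Subgroup.centralizer (P : Set G) ≤ LL P := le_sup_right
  have hPL : P ≤ LL P := le_sup_left
  obtain ⟨B, hB⟩ := Cfsg.Agent.S0919.result p M hM P (LL P) hPp hPL hCL (L_le_normalizer P) b hbB
  obtain ⟨χ, hχ⟩ := isPBlock_nonempty hB.2.1
  obtain ⟨g, hg, hgne⟩ := exists_ne hM hc θ hθ
  obtain ⟨d, hd⟩ : ∃ d, d = charDegree (θ : LL P ⧸ PL P → ℂ) := ⟨_, rfl⟩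
  obtain ⟨m, hm⟩ : charDegree (θ : LL P ⧸ PL P → ℂ) ∣ Nat.card (LL P ⧸ PL P) := Knorr.charDegree_dvd θ.2
  have hdz : ¬ p ∣ Nat.card (LL P ⧸ PL P) / charDegree (θ : LL P ⧸ PL P → ℂ) := by
    rw [hm, Nat.mul_div_cancel_left _ (Nat.pos_of_ne_zero (Knorr.charDegree_ne_zero θ.2))]
    exact not_dvd_quot hm Nat.card_pos.ne' hθ
  refine ⟨χ, fun z hz hz1 y hy hvan => ?_⟩
  have hzo : ∃ k : ℕ, orderOf z = p ^ k := ⟨1, by
    rw [pow_one, ← Nat.card_zpowers, zpowers_eq hc hz hz1, hc]⟩
  have hS := CentralizerSum.sum_components hM z hzo (LL_eq_centralizer hc hz hz1) hB.2.1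
    (A := {ξ | IsInducedBlock M (LL P) (blockOf M (ξ : LL P → ℂ)) B}) (fun ξ => Iff.rfl) y hy χ
  rw [if_pos hχ] at hS
  rw [← hS]
  refine Finset.sum_eq_zero fun ξ hξ => ?_
  have hξA : IsInducedBlock M (LL P) (blockOf M (ξ : LL P → ℂ)) B := (Finset.mem_filter.1 hξ).2
  -- Brauer congruence
  have k1 := (Cfsg.Agent.S0918.result p M hM P (LL P) hPp hPL hCL (L_le_normalizer P) b hbB B hB.2.1).1 hB
    (infl θ) (mem_blockOf_self _) χ hχ
  have k2 := (Cfsg.Agent.S0918.result p M hM P (LL P) hPp hPL hCL (L_le_normalizer P) _ hξA.1 B hB.2.1).1 hξA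
    ξ (mem_blockOf_self _) χ hχ
  obtain ⟨n, hn⟩ := mem_orbitSet_of_brauer_congr hM P hPp g hg hbB (infl θ) ξ (mem_blockOf_self _)
    (fun c => memLocalIdeal_sub_trans (k1 c) (memLocalIdeal_sub_comm (k2 c))) hgne
  obtain ⟨c, hcc⟩ := apply_eq hM (PL_le_center hc) (P := PL P) hPp.comap_subtype θ hdz
    (compIrr (conjN P n) ξ) hn
  have h1 := hcc (conjN P n⁻¹ y) (by rwa [MulEquiv.orderOf_eq])
  have hinv : conjN P n (conjN P n⁻¹ y) = y := by
    apply Subtype.ext
    rw [conjN_coe, conjN_coe]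
    push_cast
    group
  rw [compIrr_apply, hinv, hvan n⁻¹, mul_zero] at h1
  rw [h1, mul_zero]

/-- Automorphisms induced on a quotient. -/
theorem exists_aut {C Q : Type*} [Group C] [Group Q] (π : C →* Q) (hπ : Function.Surjective π) (e : C ≃* C)
    (he : ∀ x, π x = 1 ↔ π (e x) = 1) : ∃ γ : MulAut Q, ∀ x, γ (π x) = π (e x) := by
  have hker : π.ker.map (e : C →* C) = π.ker := by
    ext x
    constructor
    · rintro ⟨y, hy, rfl⟩
      exact (he y).1 hy
    · intro hx
      refine ⟨e.symm x, ?_, by simp⟩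
      have h1 := (he (e.symm x)).2 (by simpa using hx)
      exact h1
  let q := QuotientGroup.quotientKerEquivOfSurjective π hπ
  refine ⟨(q.symm.trans (QuotientGroup.congr π.ker π.ker e hker)).trans q, fun x => ?_⟩
  have h1 : q (QuotientGroup.mk x) = π x := rfl
  rw [← h1]
  show q (QuotientGroup.congr π.ker π.ker e hker (q.symm (q (QuotientGroup.mk x)))) = _
  rw [MulEquiv.symm_apply_apply]
  rfl

/-- The version for a surjection of `C(z)` with kernel `⟨z⟩`. -/
theorem exists_char' {z : G} (hz : orderOf z = p) {Q : Type*} [Group Q]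
    (π : Subgroup.centralizer ({z} : Set G) →* Q) (hπ : Function.Surjective π)
    (hker : ∀ x, π x = 1 ↔ (x : G) ∈ Subgroup.zpowers z) (θ : IrrCharacter Q)
    (hθ : (charDegree (θ : Q → ℂ)).factorization p = (Nat.card Q).factorization p) :
    ∃ χ : IrrCharacter G, ∀ u ∈ Subgroup.zpowers z, u ≠ 1 → ∀ y : Subgroup.centralizer ({z} : Set G),
      ¬ p ∣ orderOf y → (∀ α : MulAut Q, (θ : Q → ℂ) (α (π y)) = 0) → (χ : G → ℂ) (u * y) = 0 := by
  have hz1 : z ≠ 1 := by
    rintro rfl
    rw [orderOf_one] at hz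
    exact hp.out.one_lt.ne hz
  have hc : Nat.card (Subgroup.zpowers z) = p := by rw [Nat.card_zpowers, hz]
  have hLC : LL (Subgroup.zpowers z) = Subgroup.centralizer ({z} : Set G) :=
    LL_eq_centralizer hc (Subgroup.mem_zpowers z) hz1
  let e0 : LL (Subgroup.zpowers z) ≃* Subgroup.centralizer ({z} : Set G) := MulEquiv.subgroupCongr hLC
  have he0 : ∀ x, ((e0 x : Subgroup.centralizer ({z} : Set G)) : G) = x := fun x => rfl
  let π' : LL (Subgroup.zpowers z) →* Q := π.comp (e0 : LL (Subgroup.zpowers z) →* _)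
  have hπ' : Function.Surjective π' := hπ.comp e0.surjective
  have hk' : π'.ker = PL (Subgroup.zpowers z) := by
    ext x
    rw [MonoidHom.mem_ker, Subgroup.mem_subgroupOf]
    exact (hker (e0 x)).trans Iff.rfl
  let q : LL (Subgroup.zpowers z) ⧸ PL (Subgroup.zpowers z) ≃* Q :=
    (QuotientGroup.quotientMulEquivOfEq hk'.symm).trans
      (QuotientGroup.quotientKerEquivOfSurjective π' hπ')
  have hq : ∀ x, q (QuotientGroup.mk x) = π' x := fun x => rfl
  let θ' : IrrCharacter (LL (Subgroup.zpowers z) ⧸ PL (Subgroup.zpowers z)) :=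
    ⟨(θ : Q → ℂ) ∘ q, isIrr_comp q.toMonoidHom q.surjective θ.2⟩
  have hθ' : (charDegree (θ' : LL (Subgroup.zpowers z) ⧸ PL (Subgroup.zpowers z) → ℂ)).factorization p =
      (Nat.card (LL (Subgroup.zpowers z) ⧸ PL (Subgroup.zpowers z))).factorization p := by
    have h1 : charDegree (θ' : LL (Subgroup.zpowers z) ⧸ PL (Subgroup.zpowers z) → ℂ) =
        charDegree (θ : Q → ℂ) := by
      rw [charDegree_def, charDegree_def]
      show ⌊((θ : Q → ℂ) (q 1)).re⌋₊ = _
      rw [map_one]
    rw [h1, hθ, Nat.card_congr q.toEquiv]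
  obtain ⟨χ, hχ⟩ := exists_char hc θ' hθ'
  refine ⟨χ, fun u hu hu1 y hy hvan => ?_⟩
  refine hχ u hu hu1 (e0.symm y) (by rwa [MulEquiv.orderOf_eq]) fun n => ?_
  obtain ⟨γ, hγ⟩ := exists_aut π' hπ' (conjN (Subgroup.zpowers z) n) (by
    intro x
    rw [← MonoidHom.mem_ker, ← MonoidHom.mem_ker, hk', Subgroup.mem_subgroupOf, Subgroup.mem_subgroupOf,
      conjN_coe]
    exact Subgroup.mem_normalizer_iff.1 n.2 _)
  show (θ : Q → ℂ) (q (QuotientGroup.mk (conjN (Subgroup.zpowers z) n (e0.symm y)))) = 0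
  rw [hq, ← hγ]
  have h2 : π' (e0.symm y) = π y := by
    show π (e0 (e0.symm y)) = π y
    rw [MulEquiv.apply_symm_apply]
  rw [h2]
  exact hvan γ

/-- Elements `z * y` are `VZ`. -/
theorem vz {z : G} (hz : orderOf z = p) {Q : Type*} [Group Q]
    (π : Subgroup.centralizer ({z} : Set G) →* Q) (hπ : Function.Surjective π)
    (hker : ∀ x, π x = 1 ↔ (x : G) ∈ Subgroup.zpowers z) (θ : IrrCharacter Q)
    (hθ : (charDegree (θ : Q → ℂ)).factorization p = (Nat.card Q).factorization p)
    (haut : ∀ α : MulAut G, ∃ g : G, g * α z * g⁻¹ ∈ Subgroup.zpowers z)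
    (y : Subgroup.centralizer ({z} : Set G)) (hy : ¬ p ∣ orderOf y)
    (hvan : ∀ α : MulAut Q, (θ : Q → ℂ) (α (π y)) = 0) : H713.VZ G (z * y) := by
  have hc : Nat.card (Subgroup.zpowers z) = p := by rw [Nat.card_zpowers, hz]
  have hz1 : z ≠ 1 := by
    rintro rfl
    rw [orderOf_one] at hz
    exact hp.out.one_lt.ne hz
  obtain ⟨χ, hχ⟩ := exists_char' hz π hπ hker θ hθ
  refine ⟨χ, fun α => ?_⟩
  obtain ⟨g, hg⟩ := haut α
  let β : MulAut G := MulAut.conj g * α
  have hβ : ∀ x, β x = g * α x * g⁻¹ := fun x => rfl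
  have hβz : β z ∈ Subgroup.zpowers z := hg
  have hβ1 : β z ≠ 1 := by
    intro h
    apply hz1
    rw [← map_one β] at h
    exact β.injective h
  have hβp : Subgroup.zpowers (β z) = Subgroup.zpowers z := zpowers_eq hc hβz hβ1
  have hcz : ∀ x : G, x ∈ Subgroup.centralizer ({β z} : Set G) ↔ x ∈ Subgroup.centralizer ({z} : Set G) := by
    intro x
    rw [← centralizer_zpowers (β z), hβp, centralizer_zpowers]
  have hcz2 : ∀ x : G, x ∈ Subgroup.centralizer ({z} : Set G) ↔ β x ∈ Subgroup.centralizer ({z} : Set G) := by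
    intro x
    rw [← hcz (β x), Subgroup.mem_centralizer_singleton_iff, Subgroup.mem_centralizer_singleton_iff,
      ← map_mul, ← map_mul, β.injective.eq_iff]
  let e : Subgroup.centralizer ({z} : Set G) ≃* Subgroup.centralizer ({z} : Set G) :=
    { toFun := fun x => ⟨β x, (hcz2 x).1 x.2⟩
      invFun := fun x => ⟨β.symm x, (hcz2 (β.symm x)).2 (by
        rw [MulEquiv.apply_symm_apply]
        exact x.2)⟩
      left_inv := fun x => Subtype.ext (β.symm_apply_apply _)
      right_inv := fun x => Subtype.ext (β.apply_symm_apply _)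
      map_mul' := fun x x' => Subtype.ext (map_mul β _ _) }
  have he : ∀ x, ((e x : Subgroup.centralizer ({z} : Set G)) : G) = β x := fun x => rfl
  obtain ⟨γ, hγ⟩ := exists_aut π hπ e (by
    intro x
    rw [hker, hker, he]
    constructor
    · intro h
      obtain ⟨k, hk⟩ := Subgroup.mem_zpowers_iff.1 h
      rw [← hk, map_zpow]
      exact Subgroup.zpow_mem _ hβz k
    · intro h
      rw [← hβp] at h
      obtain ⟨k, hk⟩ := Subgroup.mem_zpowers_iff.1 h
      rw [← map_zpow, β.injective.eq_iff] at hk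
      rw [← hk]
      exact Subgroup.zpow_mem _ (Subgroup.mem_zpowers z) k)
  have h1 := hχ (β z) hβz hβ1 (e y) (by rwa [MulEquiv.orderOf_eq]) (fun α' => by
    rw [← hγ]
    exact hvan (α' * γ))
  rw [he, ← map_mul, hβ, irr_conj χ.2] at h1
  exact h1

/-- The case of two defects zero. -/
theorem vz_dz {z : G} (hz : orderOf z = p) {Q : Type*} [Group Q]
    (π : Subgroup.centralizer ({z} : Set G) →* Q) (hπ : Function.Surjective π)
    (hker : ∀ x, π x = 1 ↔ (x : G) ∈ Subgroup.zpowers z) (θ : IrrCharacter Q)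
    (hθ : (charDegree (θ : Q → ℂ)).factorization p = (Nat.card Q).factorization p)
    {q : ℕ} [hq : Fact q.Prime]
    (hθq : (charDegree (θ : Q → ℂ)).factorization q = (Nat.card Q).factorization q)
    (haut : ∀ α : MulAut G, ∃ g : G, g * α z * g⁻¹ ∈ Subgroup.zpowers z)
    (y : Subgroup.centralizer ({z} : Set G)) (hy : ¬ p ∣ orderOf y) (hqy : q ∣ orderOf (π y)) :
    H713.VZ G (z * y) := by
  have hfin : Finite Q := Finite.of_surjective π hπ
  refine vz hz π hπ hker θ hθ haut y hy fun α => ?_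
  refine Cfsg.Agent.H713.irr_zero_of_singular hθq ?_
  rwa [MulEquiv.orderOf_eq]

end Cfsg.Agent.H854.Loc
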