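import Cfsg.Agent.H854.Loc.Reg
import Cfsg.Agent.H713.Engine
import Cfsg.Agent.Characters.MonomialVec
import Cfsg.Agent.Lib.NormalAbelian

/-!
# The central character of a block of `C(P)` with defect group `P` of order `p` (helper854)

`exists_ne` : for `θ ∈ Irr(C(P)/P)` of defect zero, some class of `G` with defect group `P` is not in the
kernel of the Brauer-induced central character.
-/

set_option autoImplicit false

namespace Cfsg.Agent.H854.Loc

open Cfsg Cfsg.Agent.Blocks.Basic Cfsg.Agent.Blocks.Local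
open Cfsg.Agent.Characters.Core
open Cfsg.Agent.Blocks.ExtendedFMT
open Cfsg.Agent.Blocks
open scoped ComplexConjugate

variable {G : Type*} [Group G] {p : ℕ} [hp : Fact p.Prime]

/-- `P C(P)` -/
abbrev LL (P : Subgroup G) : Subgroup G := P ⊔ Subgroup.centralizer (P : Set G)

/-- `P` in `P C(P)` -/
abbrev PL (P : Subgroup G) : Subgroup (LL P) := P.subgroupOf (LL P)

instance normal_PL (P : Subgroup G) : (PL P).Normal :=
  Subgroup.normal_subgroupOf_of_le_normalizer (L_le_normalizer P)

theorem le_cent {P : Subgroup G} (hc : Nat.card P = p) : P ≤ Subgroup.centralizer (P : Set G) := by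
  have hcyc : IsCyclic P := isCyclic_of_prime_card hc
  intro x hx
  rw [Subgroup.mem_centralizer_iff]
  intro y hy
  have := hcyc.isMulCommutative.is_comm.comm ⟨y, hy⟩ ⟨x, hx⟩
  exact congrArg Subtype.val this

theorem LL_eq {P : Subgroup G} (hc : Nat.card P = p) : LL P = Subgroup.centralizer (P : Set G) :=
  sup_eq_right.2 (le_cent hc)

theorem PL_le_center {P : Subgroup G} (hc : Nat.card P = p) : PL P ≤ Subgroup.center (LL P) := by
  intro x hx
  rw [Subgroup.mem_center_iff]
  intro y
  have hy : (y : G) ∈ Subgroup.centralizer (P : Set G) := by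
    rw [← LL_eq hc]
    exact y.2
  apply Subtype.ext
  exact (Subgroup.mem_centralizer_iff.1 hy x (Subgroup.mem_subgroupOf.1 hx)).symm

theorem card_PL (P : Subgroup G) : Nat.card (PL P) = Nat.card P :=
  Nat.card_congr (Subgroup.subgroupOfEquivOfLe le_sup_left).toEquiv

omit hp in
theorem isPGroup_of_card {P : Subgroup G} (hc : Nat.card P = p) : IsPGroup p P :=
  IsPGroup.of_card (n := 1) (by rw [hc, pow_one])

/-- A `p`-group normalizing a group of order `p` centralizes it. -/
theorem le_centralizer_of_normalizes [Finite G] {P Q : Subgroup G} (hc : Nat.card P = p)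
    (hQ : IsPGroup p Q) (hPQ : P ≤ Q) (hn : Q ≤ Subgroup.normalizer (P : Set G)) :
    Q ≤ Subgroup.centralizer (P : Set G) := by
  have h1 : (P.subgroupOf Q).Normal := Subgroup.normal_subgroupOf_of_le_normalizer hn
  have h2 : Nat.card (P.subgroupOf Q) = p := by
    rw [Nat.card_congr (Subgroup.subgroupOfEquivOfLe hPQ).toEquiv, hc]
  have hne : P.subgroupOf Q ≠ ⊥ := by
    intro h
    rw [h, Subgroup.card_bot] at h2
    exact hp.out.one_lt.ne h2
  have h3 : (P.subgroupOf Q) ⊓ Subgroup.center Q ≠ ⊥ := by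
    have : Group.IsNilpotent Q := hQ.isNilpotent
    exact Cfsg.Agent.Lib.NormalAbelian.normal_inf_center_ne_bot _ hne
  have h4 : (P.subgroupOf Q) ⊓ Subgroup.center Q = P.subgroupOf Q := by
    apply Subgroup.eq_of_le_of_card_ge inf_le_left
    rw [h2]
    have h5 : Nat.card ↥(P.subgroupOf Q ⊓ Subgroup.center Q) ∣ p := by
      rw [← h2]
      exact Subgroup.card_dvd_of_le inf_le_left
    rcases (Nat.dvd_prime hp.out).1 h5 with h6 | h6
    · exact absurd (Subgroup.eq_bot_of_card_eq _ h6) h3
    · exact h6.ge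
  intro q hq
  rw [Subgroup.mem_centralizer_iff]
  intro x hx
  have h5 : (⟨x, hPQ hx⟩ : Q) ∈ Subgroup.center Q := by
    have h6 : (⟨x, hPQ hx⟩ : Q) ∈ P.subgroupOf Q := Subgroup.mem_subgroupOf.2 hx
    rw [← h4] at h6
    exact h6.2
  exact (congrArg Subtype.val (Subgroup.mem_center_iff.1 h5 ⟨q, hq⟩)).symm

variable [Finite G] {M : Ideal AlgInt}

theorem sum_regular_mul {P : Subgroup G} (hc : Nat.card P = p) [Fintype (LL P)]
    [DecidablePred fun x : LL P => ¬ p ∣ orderOf x] (F : LL P → ℂ)
    (hF : ∀ (x : LL P) (u : PL P), F (x * u) = F x)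
    (hF0 : ∀ x : LL P, p ∣ orderOf (QuotientGroup.mk x : LL P ⧸ PL P) → F x = 0) :
    (p : ℂ) * ∑ x : LL P with ¬ p ∣ orderOf x, F x = ∑ x, F x := by
  classical
  have := Fintype.ofFinite (LL P ⧸ PL P)
  let f : LL P ⧸ PL P → ℂ := fun c => F c.out
  have hf : ∀ x : LL P, f (QuotientGroup.mk x) = F x := by
    intro x
    have h1 : (QuotientGroup.mk x : LL P ⧸ PL P).out⁻¹ * x ∈ PL P := by
      rw [← QuotientGroup.eq, QuotientGroup.out_eq']
    have h2 := hF (QuotientGroup.mk x : LL P ⧸ PL P).out ⟨_, h1⟩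
    rw [mul_inv_cancel_left] at h2
    exact h2.symm
  have h1 := sum_regular (p := p) (PL_le_center hc) (P := PL P) ((isPGroup_of_card hc).comap_subtype) f (by
    intro c hcp
    obtain ⟨x, rfl⟩ := QuotientGroup.mk_surjective c
    rw [hf]
    exact hF0 x hcp)
  have h2 := Cfsg.Agent.Characters.MonomialVec.sum_eq_card_mul_sum_quotient (PL P) F hF
  rw [h2, card_PL, hc]
  congr 1
  rw [← h1]
  exact Finset.sum_congr rfl fun x _ => (hf x).symm

omit [Finite G] in
theorem mk_conjN {P : Subgroup G} (n : Subgroup.normalizer (P : Set G)) (x : LL P) (u : PL P) :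
    (QuotientGroup.mk (conjN P n (x * u)) : LL P ⧸ PL P) = QuotientGroup.mk (conjN P n x) := by
  rw [map_mul, QuotientGroup.mk_mul_of_mem]
  rw [Subgroup.mem_subgroupOf, conjN_coe]
  exact (Subgroup.mem_normalizer_iff.1 n.2 _).1 (Subgroup.mem_subgroupOf.1 u.2)

omit [Finite G] in
theorem orderOf_mk_conjN {P : Subgroup G} (n : Subgroup.normalizer (P : Set G)) (x : LL P) :
    orderOf (QuotientGroup.mk (conjN P n x) : LL P ⧸ PL P) = orderOf (QuotientGroup.mk x : LL P ⧸ PL P) := by
  have key : ∀ (m : Subgroup.normalizer (P : Set G)) (y : LL P) (k : ℕ),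
      y ^ k ∈ PL P → (conjN P m y) ^ k ∈ PL P := by
    intro m y k h
    rw [← map_pow, Subgroup.mem_subgroupOf, conjN_coe]
    exact (Subgroup.mem_normalizer_iff.1 m.2 _).1 (Subgroup.mem_subgroupOf.1 h)
  have hinv : conjN P n⁻¹ (conjN P n x) = x := by
    apply Subtype.ext
    rw [conjN_coe, conjN_coe]
    push_cast
    group
  apply Nat.dvd_antisymm
  · apply orderOf_dvd_of_pow_eq_one
    rw [← QuotientGroup.mk_pow, QuotientGroup.eq_one_iff]
    apply key
    rw [← QuotientGroup.eq_one_iff, QuotientGroup.mk_pow, pow_orderOf_eq_one]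
  · apply orderOf_dvd_of_pow_eq_one
    rw [← QuotientGroup.mk_pow, QuotientGroup.eq_one_iff]
    have h1 := key n⁻¹ (conjN P n x) (orderOf (QuotientGroup.mk (conjN P n x) : LL P ⧸ PL P)) (by
      rw [← QuotientGroup.eq_one_iff, QuotientGroup.mk_pow, pow_orderOf_eq_one])
    rwa [hinv] at h1


theorem not_dvd_quot {n d m : ℕ} (hn : n = d * m) (hn0 : n ≠ 0) (h : d.factorization p = n.factorization p) :
    ¬ p ∣ m := by
  have hd0 : d ≠ 0 := by rintro rfl; simp at hn; exact hn0 hn
  have hm0 : m ≠ 0 := by rintro rfl; simp at hn; exact hn0 hn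
  rw [hn, Nat.factorization_mul hd0 hm0, Finsupp.add_apply] at h
  have h1 : m.factorization p = 0 := by omega
  intro h2
  have h3 := (Nat.Prime.dvd_iff_one_le_factorization hp.out hm0).1 h2
  omega

/-- Some class of `G` with defect group `P` is not killed by the Brauer-induced central character. -/
theorem exists_ne (hM : IsPModular p M) {P : Subgroup G} (hc : Nat.card P = p)
    (θ : IrrCharacter (LL P ⧸ PL P))
    (hθ : (charDegree (θ : LL P ⧸ PL P → ℂ)).factorization p = (Nat.card (LL P ⧸ PL P)).factorization p) :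
    ∃ c : G, (∃ S : Sylow p (Subgroup.centralizer ({c} : Set G)),
      (S : Subgroup (Subgroup.centralizer ({c} : Set G))).map
        (Subgroup.centralizer ({c} : Set G)).subtype = P) ∧
      ¬ MemLocalIdeal M (brauerCentralChar P (LL P) (infl θ : LL P → ℂ) c) := by
  classical
  have hprime : M.IsPrime := isPrime_of_isPModular hM
  by_contra hcon
  push Not at hcon
  have hFL : Fintype (LL P) := Fintype.ofFinite _
  have hFN : Fintype (Subgroup.normalizer (P : Set G)) := Fintype.ofFinite _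
  have hPp : IsPGroup p P := isPGroup_of_card hc
  obtain ⟨ξ, hξ⟩ : ∃ ξ : IrrCharacter (LL P), ξ = infl θ := ⟨_, rfl⟩
  rw [← hξ] at hcon
  have hξv : ∀ x, (ξ : LL P → ℂ) x = (θ : LL P ⧸ PL P → ℂ) (QuotientGroup.mk x) := by
    intro x
    rw [hξ]
    rfl
  obtain ⟨d, hd⟩ : ∃ d, d = charDegree (θ : LL P ⧸ PL P → ℂ) := ⟨_, rfl⟩
  rw [← hd] at hθ
  obtain ⟨m, hm⟩ : d ∣ Nat.card (LL P ⧸ PL P) := by
    rw [hd]
    exact Knorr.charDegree_dvd θ.2
  have hpm : ¬ p ∣ m := not_dvd_quot hm Nat.card_pos.ne' hθ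
  have hcardL : Nat.card (LL P) = p * (d * m) := by
    rw [← hm, ← hc, ← card_PL P, mul_comm]
    exact Subgroup.card_eq_card_quotient_mul_card_subgroup (PL P)
  have hξ1 : (ξ : LL P → ℂ) 1 = d := by
    rw [hξv, QuotientGroup.mk_one, hd]
    exact Knorr.charDegree_eq θ.2
  have hd0 : (d : ℂ) ≠ 0 := by
    rw [← hξ1]
    exact irr_one_ne_zero ξ.2
  have hm0 : (m : ℂ) ≠ 0 := by
    intro h
    apply hpm
    have : m = 0 := by exact_mod_cast h
    rw [this]
    exact dvd_zero p
  have hp0 : (p : ℂ) ≠ 0 := by exact_mod_cast hp.out.ne_zero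
  have hθv : ∀ c : LL P ⧸ PL P, p ∣ orderOf c → (θ : LL P ⧸ PL P → ℂ) c = 0 := by
    intro c hcp
    refine Cfsg.Agent.H713.irr_zero_of_singular (p := p) ?_ hcp
    rw [← hd]
    exact hθ
  -- the conjugates of `ξ`
  let T : Finset (IrrCharacter (LL P)) :=
    Finset.univ.image (fun n : Subgroup.normalizer (P : Set G) => compIrr (conjN P n) ξ)
  have hTmem : ∀ η, η ∈ T ↔ ∃ n, compIrr (conjN P n) ξ = η := by
    intro η
    simp only [T, Finset.mem_image, Finset.mem_univ, true_and]
  have hT0 : ξ ∈ T := (hTmem ξ).2 ⟨1, compIrr_conjN_one P ξ⟩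
  have hTinv : ∀ (n : Subgroup.normalizer (P : Set G)), ∀ η ∈ T, compIrr (conjN P n) η ∈ T := by
    intro n η hη
    obtain ⟨k, rfl⟩ := (hTmem η).1 hη
    rw [normalizer_mul_conjN]
    exact (hTmem _).2 ⟨_, rfl⟩
  have hT1 : ∀ η ∈ T, (η : LL P → ℂ) 1 = d := by
    intro η hη
    obtain ⟨k, rfl⟩ := (hTmem η).1 hη
    rw [compIrr_apply, map_one, hξ1]
  -- the sums
  have hsum : ∀ η ∈ T, (p : ℂ) * ∑ x : LL P with ¬ p ∣ orderOf x, conj ((η : LL P → ℂ) x) * (ξ : LL P → ℂ) x =
      if η = ξ then (Nat.card (LL P) : ℂ) else 0 := by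
    intro η hη
    rw [sum_regular_mul hc (fun x : LL P => conj ((η : LL P → ℂ) x) * (ξ : LL P → ℂ) x)]
    · have h1 : ∑ x : LL P, conj ((η : LL P → ℂ) x) * (ξ : LL P → ℂ) x =
          (Nat.card (LL P) : ℂ) * classInner (ξ : LL P → ℂ) (η : LL P → ℂ) := by
        rw [Cfsg.Agent.Blocks.Basic.classInner_def, ← mul_assoc, mul_inv_cancel₀
          (by exact_mod_cast Nat.card_pos.ne'), one_mul]
        exact Finset.sum_congr rfl fun x _ => mul_comm _ _
      rw [h1]
      split_ifs with h
      · rw [h, classInner_irr_self ξ.2, mul_one]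
      · rw [classInner_irr_ne ξ.2 η.2 (fun h2 => h (Subtype.ext h2.symm)), mul_zero]
    · intro x u
      obtain ⟨k, rfl⟩ := (hTmem η).1 hη
      rw [compIrr_apply, compIrr_apply, hξv, hξv, hξv, hξv, mk_conjN,
        QuotientGroup.mk_mul_of_mem _ u.2]
    · intro x hx
      show conj ((η : LL P → ℂ) x) * (ξ : LL P → ℂ) x = 0
      rw [hξv x, hθv _ hx, mul_zero]
  -- the idempotent
  let e : LL P → ℂ := fun x => if p ∣ orderOf x then 0 else (m : ℂ)⁻¹ * ∑ η ∈ T, conj ((η : LL P → ℂ) x)
  have he_def : ∀ x, e x = if p ∣ orderOf x then 0 else (m : ℂ)⁻¹ * ∑ η ∈ T, conj ((η : LL P → ℂ) x) :=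
    fun _ => rfl
  have hinv : ∀ (n : Subgroup.normalizer (P : Set G)) x, e (conjN P n x) = e x := by
    intro n x
    rw [he_def, he_def, MulEquiv.orderOf_eq]
    congr 2
    refine Finset.sum_nbij' (fun η => compIrr (conjN P n) η) (fun η => compIrr (conjN P n⁻¹) η)
      (fun η hη => hTinv n η hη) (fun η hη => hTinv n⁻¹ η hη) ?_ ?_ (fun η _ => rfl)
    · intro η _
      rw [normalizer_mul_conjN, mul_inv_cancel, compIrr_conjN_one]
    · intro η _
      rw [normalizer_mul_conjN, inv_mul_cancel, compIrr_conjN_one]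
  have hecl : IsClassFunction _ e := by
    intro x h
    have : h * x * h⁻¹ = conjN P ⟨(h : G), L_le_normalizer P h.2⟩ x := rfl
    rw [this, hinv]
  have hmR : MemLocalRing M ((m : ℂ)⁻¹) := memLocalRing_inv_natCast hM hpm
  have hint : ∀ (η : IrrCharacter (LL P)) (x : LL P), IsIntegral ℤ (conj ((η : LL P → ℂ) x)) := by
    intro η x
    rw [← isCharacter_apply_inv (irr_isCharacter η.2)]
    obtain ⟨n, ρ, hρ, h⟩ := η.2
    rw [← h]
    exact Cfsg.Agent.Characters.Values.character_isIntegral ρ _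
  have he : ∀ x, MemLocalRing M (e x) := by
    intro x
    rw [he_def]
    split_ifs
    · exact memLocalRing_zero
    · exact memLocalRing_mul hmR (memLocalRing_sum fun η _ => memLocalRing_of_isIntegral (hint η x))
  -- total
  have htot : ∑ x : LL P, e x * ((ξ : LL P → ℂ) x / (ξ : LL P → ℂ) 1) = 1 := by
    have h1 : ∀ x : LL P, e x * ((ξ : LL P → ℂ) x / (ξ : LL P → ℂ) 1) =
        if ¬ p ∣ orderOf x then
          (m : ℂ)⁻¹ * (d : ℂ)⁻¹ * ∑ η ∈ T, conj ((η : LL P → ℂ) x) * (ξ : LL P → ℂ) x else 0 := by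
      intro x
      rw [he_def, hξ1]
      by_cases h : p ∣ orderOf x
      · rw [if_pos h, if_neg (not_not.2 h), zero_mul]
      · rw [if_neg h, if_pos h, ← Finset.sum_mul]
        ring
    rw [Finset.sum_congr rfl fun x _ => h1 x, ← Finset.sum_filter, ← Finset.mul_sum, Finset.sum_comm]
    have h2 : (p : ℂ) * ∑ η ∈ T, ∑ x : LL P with ¬ p ∣ orderOf x, conj ((η : LL P → ℂ) x) * (ξ : LL P → ℂ) x =
        (Nat.card (LL P) : ℂ) := by
      rw [Finset.mul_sum, Finset.sum_congr rfl hsum, Finset.sum_ite_eq' T ξ, if_pos hT0]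
    have h3 : (Nat.card (LL P) : ℂ) = p * (d * m) := by
      rw [hcardL]
      push_cast
      ring
    rw [h3] at h2
    have h4 := mul_left_cancel₀ hp0 h2
    rw [h4]
    field_simp
  -- the elements with defect group `P`
  let Q : G → Prop := fun x => ∃ S : Sylow p (Subgroup.centralizer ({x} : Set G)),
      (S : Subgroup (Subgroup.centralizer ({x} : Set G))).map
        (Subgroup.centralizer ({x} : Set G)).subtype = P
  let X : Finset (LL P) := Finset.univ.filter (fun x => Q (x : G))
  have hmemX : ∀ x, x ∈ X ↔ Q (x : G) := by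
    intro x
    simp only [X, Finset.mem_filter, Finset.mem_univ, true_and]
  have hLc : ∀ x : LL P, (x : G) ∈ Subgroup.centralizer (P : Set G) := fun x => by
    rw [← LL_eq hc]
    exact x.2
  have hXinv : ∀ h x : LL P, h * x * h⁻¹ ∈ X ↔ x ∈ X := by
    intro h x
    have key : ∀ h x : LL P, x ∈ X → h * x * h⁻¹ ∈ X := by
      intro h x hx
      rw [hmemX] at hx ⊢
      exact sylow_of_isConj P hx (isConj_iff.2 ⟨(h : G), rfl⟩) (hLc (h * x * h⁻¹))
    constructor
    · intro h3
      have h4 := key h⁻¹ _ h3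
      have h5 : h⁻¹ * (h * x * h⁻¹) * h⁻¹⁻¹ = x := by group
      rwa [h5] at h4
    · exact key h x
  -- outside `X` the coefficients vanish modulo `M`
  have hout : ∀ t : LL P, t ∉ X → MemLocalIdeal M (e t) := by
    intro t ht
    rw [hmemX] at ht
    have hnS : ¬ ∃ S : Sylow p (Subgroup.centralizer ({(t : G)} : Set G) ⊓
        Subgroup.normalizer (P : Set G) : Subgroup G),
      (S : Subgroup ↥(Subgroup.centralizer ({(t : G)} : Set G) ⊓
        Subgroup.normalizer (P : Set G))).map (Subgroup.centralizer ({(t : G)} : Set G) ⊓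
        Subgroup.normalizer (P : Set G)).subtype = P :=
      fun h6 => ht ((Cfsg.Agent.S0916.result p P hPp).2 (t : G) (hLc t) h6)
    rw [SylowIn.exists_sylow_map_eq_iff] at hnS
    push Not at hnS
    have hPK : P ≤ Subgroup.centralizer ({(t : G)} : Set G) ⊓ Subgroup.normalizer (P : Set G) := by
      refine le_inf ?_ Subgroup.le_normalizer
      intro u hu
      rw [Subgroup.mem_centralizer_singleton_iff]
      exact Subgroup.mem_centralizer_iff.1 (hLc t) u hu
    obtain ⟨R, hRK, hRp, hPR, hne⟩ := hnS hPK hPp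
    have hRC := le_centralizer_of_normalizes hc hRp hPR (hRK.trans inf_le_right)
    -- `p²` divides the order of the centralizer of `t` in `L`
    have hRL : R ≤ LL P := by
      rw [LL_eq hc]
      exact hRC
    have hRle : R.subgroupOf (LL P) ≤ Subgroup.centralizer ({t} : Set (LL P)) := by
      intro u hu
      rw [Subgroup.mem_centralizer_singleton_iff]
      apply Subtype.ext
      exact Subgroup.mem_centralizer_singleton_iff.1 (hRK (Subgroup.mem_subgroupOf.1 hu)).1
    have hRcard : p * p ∣ Nat.card R := by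
      obtain ⟨k, hk⟩ := (IsPGroup.iff_card (p := p) (G := R)).1 hRp
      have h1 : Nat.card P < Nat.card R := by
        have h1 : Nat.card P ≤ Nat.card R := Nat.card_le_card_of_injective
          (Subgroup.inclusion hPR) (Subgroup.inclusion_injective hPR)
        refine lt_of_le_of_ne h1 fun h2 => hne ?_
        exact (Subgroup.eq_of_le_of_card_ge hPR h2.ge).symm
      rw [hc, hk] at h1
      have h2 : 1 < k := by
        by_contra h3
        have : p ^ k ≤ p ^ 1 := Nat.pow_le_pow_right hp.out.pos (not_lt.1 h3)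
        rw [pow_one] at this
        exact absurd h1 (not_lt.2 this)
      rw [hk, ← pow_two]
      exact pow_dvd_pow p h2
    obtain ⟨w, hw⟩ : p * p ∣ Nat.card (Subgroup.centralizer ({t} : Set (LL P))) := by
      refine hRcard.trans ?_
      rw [← Nat.card_congr (Subgroup.subgroupOfEquivOfLe hRL).toEquiv]
      exact Subgroup.card_dvd_of_le hRle
    rw [he_def]
    split_ifs with hpt
    · exact memLocalIdeal_zero
    refine memLocalIdeal_mul_left hmR (memLocalIdeal_sum fun η hη => ?_)
    have h1 : (η : LL P → ℂ) t = centralChar (η : LL P → ℂ) t * (p * w * (m : ℂ)⁻¹) := by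
      have h2 := Subgroup.card_mul_index (Subgroup.centralizer ({t} : Set (LL P)))
      rw [hw, hcardL] at h2
      have h3 : (p : ℂ) * ((Subgroup.centralizer ({t} : Set (LL P))).index) * w = d * m := by
        have h4 : p * (p * (Subgroup.centralizer ({t} : Set (LL P))).index * w) = p * (d * m) := by
          rw [← h2]
          ring
        have h5 := Nat.eq_of_mul_eq_mul_left hp.out.pos h4
        exact_mod_cast h5
      unfold centralChar
      rw [hT1 η hη]
      field_simp
      linear_combination (-(η : LL P → ℂ) t) * h3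
    have h2 : conj ((η : LL P → ℂ) t) = (p : ℂ) * ((w : ℂ) * (m : ℂ)⁻¹ * conj (centralChar (η : LL P → ℂ) t)) := by
      rw [h1, map_mul, map_mul, map_mul, map_inv₀, Complex.conj_natCast, Complex.conj_natCast,
        Complex.conj_natCast]
      ring
    rw [h2]
    refine memLocalIdeal_mul_right (memLocalIdeal_p hM) (memLocalRing_mul (memLocalRing_mul
      (memLocalRing_natCast w) hmR) (memLocalRing_of_isIntegral ?_))
    have h3 := CentralScalar.isIntegral_centralChar η.2 t
    exact h3.map (starRingEnd ℂ : ℂ →+* ℂ).toIntAlgHom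
  -- reduction to `X`
  have step7 : MemLocalIdeal M (1 - ∑ x ∈ X, e x * ((ξ : LL P → ℂ) x / (ξ : LL P → ℂ) 1)) := by
    let w1 : LL P → ℂ := fun x => if x ∈ X then 0 else e x
    have hw1 : IsClassFunction _ w1 := by
      intro x h
      change (if h * x * h⁻¹ ∈ X then (0 : ℂ) else e (h * x * h⁻¹)) = if x ∈ X then 0 else e x
      by_cases hx : x ∈ X
      · rw [if_pos hx, if_pos ((hXinv h x).2 hx)]
      · rw [if_neg hx, if_neg (fun h3 => hx ((hXinv h x).1 h3)), hecl x h]
    have h3 : 1 - ∑ x ∈ X, e x * ((ξ : LL P → ℂ) x / (ξ : LL P → ℂ) 1) =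
        ∑ x, w1 x * ((ξ : LL P → ℂ) x / (ξ : LL P → ℂ) 1) := by
      rw [← htot, sub_eq_iff_eq_add]
      have h4 : ∑ x ∈ X, e x * ((ξ : LL P → ℂ) x / (ξ : LL P → ℂ) 1) =
          ∑ x, (if x ∈ X then e x else 0) * ((ξ : LL P → ℂ) x / (ξ : LL P → ℂ) 1) := by
        simp only [ite_mul, zero_mul, Finset.sum_ite_mem, Finset.univ_inter]
      rw [h4, ← Finset.sum_add_distrib]
      refine Finset.sum_congr rfl fun x _ => ?_
      rw [← add_mul]
      have h5 : w1 x + (if x ∈ X then e x else 0) = e x := by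
        change (if x ∈ X then (0 : ℂ) else e x) + (if x ∈ X then e x else 0) = e x
        split_ifs <;> simp
      rw [h5]
    rw [h3]
    obtain ⟨T', hT'⟩ := ClassSum.exists_reps (G := LL P)
    rw [hT' w1 _ hw1]
    refine memLocalIdeal_sum fun t _ => ?_
    rw [ClassSum.finsum_conj_div (irr_isClassFunction' ξ)]
    refine memLocalIdeal_mul_right ?_ (memLocalRing_of_isIntegral
      (CentralScalar.isIntegral_centralChar ξ.2 t))
    change MemLocalIdeal M (if t ∈ X then (0 : ℂ) else e t)
    split_ifs with h4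
    · exact memLocalIdeal_zero
    · exact hout t h4
  -- the contribution of `X`
  have step8 : MemLocalIdeal M (∑ x ∈ X, e x * ((ξ : LL P → ℂ) x / (ξ : LL P → ℂ) 1)) := by
    let mkG : LL P → ConjClasses G := fun x => ConjClasses.mk (x : G)
    rw [← Finset.sum_fiberwise_of_maps_to (s := X) (t := X.image mkG) (g := mkG)
      (fun x hx => Finset.mem_image_of_mem _ hx) (fun x => e x * ((ξ : LL P → ℂ) x / (ξ : LL P → ℂ) 1))]
    refine memLocalIdeal_sum fun C hC => ?_
    obtain ⟨c, hcX, rfl⟩ := Finset.mem_image.1 hC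
    have hcQ := (hmemX c).1 hcX
    have hfib : X.filter (fun x => mkG x = mkG c) =
        Finset.univ.filter (fun h : LL P =>
          IsConj (c : G) (h : G) ∧ (h : G) ∈ Subgroup.centralizer (P : Set G)) := by
      ext x
      have hmk : mkG x = mkG c ↔ IsConj (x : G) (c : G) := ConjClasses.mk_eq_mk_iff_isConj
      rw [Finset.mem_filter, hmemX, Finset.mem_filter, hmk]
      constructor
      · rintro ⟨_, h5⟩
        exact ⟨Finset.mem_univ _, h5.symm, hLc x⟩
      · rintro ⟨_, h4, h5⟩
        exact ⟨sylow_of_isConj P hcQ h4 h5, h4.symm⟩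
    have hval : ∑ x ∈ X.filter (fun x => mkG x = mkG c),
          e x * ((ξ : LL P → ℂ) x / (ξ : LL P → ℂ) 1) = e c *
            brauerCentralChar P (LL P) (ξ : LL P → ℂ) c := by
      rw [brauerCentralChar_eq_sum, Finset.mul_sum, hfib]
      refine Finset.sum_congr rfl fun x hx => ?_
      obtain ⟨-, h3, h4⟩ := Finset.mem_filter.1 hx
      obtain ⟨n, hn, hnx⟩ := ((Cfsg.Agent.S0916.result p P hPp).1 c hcQ).2 c x (IsConj.refl _) h3
        (hLc c) h4
      have h5 : x = conjN P ⟨n, hn⟩ c := Subtype.ext (by rw [conjN_coe]; exact hnx.symm)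
      have h6 : e x = e c := by rw [h5, hinv]
      rw [h6]
    rw [hval]
    exact memLocalIdeal_mul_left (he c) (hcon c hcQ)
  have h9 := memLocalIdeal_add step7 step8
  rw [sub_add_cancel] at h9
  exact not_memLocalIdeal_one h9

end Cfsg.Agent.H854.Loc
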