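import Cfsg.Agent.Blocks.ExtendedFMT
import Cfsg.Agent.Blocks.CentralizerSum
import Cfsg.Agent.Blocks.PRegular
import Cfsg.Agent.Blocks.Orthogonality
import Cfsg.Agent.S0941
import Cfsg.Agent.S0969
import Cfsg.Agent.S0914

/-!
# Blocks with central defect group (helper854)

`H` finite, `P` a central `p`-subgroup, `θ` a character of `H ⧸ P` of `p`-defect zero:
every character in the block of `θ` is a multiple of `θ` on the `p`-regular elements.
-/

set_option autoImplicit false

namespace Cfsg.Agent.H854.Loc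

open Cfsg Cfsg.Agent.Blocks.Basic Cfsg.Agent.Blocks.Local
open Cfsg.Agent.Characters.Core
open scoped ComplexConjugate

variable {H : Type*} [Group H] {p : ℕ} [hp : Fact p.Prime]

/-- Two `p`-regular elements with the same image modulo a central `p`-subgroup are equal. -/
theorem eq_of_mk_eq {P : Subgroup H} (hPc : P ≤ Subgroup.center H) (hP : IsPGroup p P) {x y : H}
    (hx : ¬ p ∣ orderOf x) (hy : ¬ p ∣ orderOf y) (h : (QuotientGroup.mk x : H ⧸ P) = QuotientGroup.mk y) :
    x = y := by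
  have hu : x⁻¹ * y ∈ P := QuotientGroup.eq.1 h
  obtain ⟨k, hk⟩ := hP ⟨_, hu⟩
  have hk' : (x⁻¹ * y) ^ p ^ k = 1 := by
    have := congrArg Subtype.val hk
    simpa using this
  have hc : Commute x (x⁻¹ * y) := (Subgroup.mem_center_iff.1 (hPc hu) x)
  have ho : orderOf (x⁻¹ * y) ∣ p ^ k := orderOf_dvd_of_pow_eq_one hk'
  have hcop : (orderOf x).Coprime (orderOf (x⁻¹ * y)) :=
    Nat.Coprime.coprime_dvd_right ho (Nat.Coprime.pow_right k
      ((Nat.Prime.coprime_iff_not_dvd hp.out).2 hx).symm)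
  have h1 := hc.orderOf_mul_eq_mul_orderOf_of_coprime hcop
  rw [mul_inv_cancel_left] at h1
  obtain ⟨j, hj, hj'⟩ := (Nat.dvd_prime_pow hp.out).1 ho
  rcases Nat.eq_zero_or_pos j with h0 | h0
  · rw [h0, pow_zero, orderOf_eq_one_iff] at hj'
    rw [← mul_one x, ← hj', mul_inv_cancel_left]
  · exfalso
    apply hy
    rw [h1, hj']
    exact Dvd.dvd.mul_left (dvd_pow_self p h0.ne') _

variable [Fintype H]

/-- The sum over the `p`-regular elements of a function on the quotient. -/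
theorem sum_regular {P : Subgroup H} [P.Normal] (hPc : P ≤ Subgroup.center H) (hP : IsPGroup p P)
    [Fintype (H ⧸ P)] [DecidablePred fun x : H => ¬ p ∣ orderOf x] (f : H ⧸ P → ℂ)
    (hf : ∀ c, p ∣ orderOf c → f c = 0) :
    ∑ x : H with ¬ p ∣ orderOf x, f (QuotientGroup.mk x) = ∑ c, f c := by
  classical
  rw [← Finset.sum_filter_add_sum_filter_not Finset.univ (fun c : H ⧸ P => ¬ p ∣ orderOf c) f]
  have h0 : ∑ c : H ⧸ P with ¬ ¬ p ∣ orderOf c, f c = 0 :=
    Finset.sum_eq_zero fun c hc => hf c (not_not.1 (Finset.mem_filter.1 hc).2)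
  rw [h0, add_zero]
  refine Finset.sum_bij (fun x _ => (QuotientGroup.mk x : H ⧸ P)) ?_ ?_ ?_ fun _ _ => rfl
  · intro x hx
    rw [Finset.mem_filter] at hx ⊢
    refine ⟨Finset.mem_univ _, fun h => hx.2 (h.trans ?_)⟩
    exact orderOf_map_dvd (QuotientGroup.mk' P) x
  · intro x hx y hy h
    exact eq_of_mk_eq hPc hP (Finset.mem_filter.1 hx).2 (Finset.mem_filter.1 hy).2 h
  · intro c hc
    obtain ⟨g, hg, hgc⟩ := Blocks.PRegular.exists_isPRegular_lift H p P (x := c) (Finset.mem_filter.1 hc).2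
    exact ⟨g, Finset.mem_filter.2 ⟨Finset.mem_univ _, hg⟩, hgc⟩

/-- The inflation. -/
noncomputable def infl {P : Subgroup H} [P.Normal] (θ : IrrCharacter (H ⧸ P)) : IrrCharacter H :=
  ⟨(θ : H ⧸ P → ℂ) ∘ (QuotientGroup.mk' P), isIrr_comp (QuotientGroup.mk' P) (QuotientGroup.mk'_surjective P) θ.2⟩

omit [Fintype H] in
theorem infl_apply {P : Subgroup H} [P.Normal] (θ : IrrCharacter (H ⧸ P)) (x : H) :
    (infl θ : H → ℂ) x = (θ : H ⧸ P → ℂ) (QuotientGroup.mk x) := rfl

omit [Fintype H] in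
theorem infl_coe {P : Subgroup H} [P.Normal] (θ : IrrCharacter (H ⧸ P)) :
    (infl θ : H → ℂ) = (θ : H ⧸ P → ℂ) ∘ (QuotientGroup.mk : H → H ⧸ P) := rfl

/-- A character in the block of `θ` is a multiple of `θ` on the `p`-regular elements. -/
theorem apply_eq {M : Ideal AlgInt} (hM : IsPModular p M) {P : Subgroup H} [P.Normal]
    (hPc : P ≤ Subgroup.center H) (hP : IsPGroup p P) (θ : IrrCharacter (H ⧸ P))
    (hθ : ¬ p ∣ Nat.card (H ⧸ P) / charDegree (θ : H ⧸ P → ℂ)) (ξ : IrrCharacter H)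
    (hξ : SameBlock M (infl θ : H → ℂ) (ξ : H → ℂ)) :
    ∃ c : ℂ, ∀ y : H, ¬ p ∣ orderOf y → (ξ : H → ℂ) y = c * (θ : H ⧸ P → ℂ) (QuotientGroup.mk y) := by
  classical
  have := isPrime_of_isPModular hM
  have := Fintype.ofFinite (H ⧸ P)
  have := finite_irr (G := H ⧸ P)
  have := Fintype.ofFinite (IrrCharacter (H ⧸ P))
  -- the function on the quotient
  let f : H ⧸ P → ℂ := fun c => ∑ x : H with ¬ p ∣ orderOf x ∧ (QuotientGroup.mk x : H ⧸ P) = c, (ξ : H → ℂ) x
  have hfv : ∀ y : H, ¬ p ∣ orderOf y → f (QuotientGroup.mk y) = (ξ : H → ℂ) y := by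
    intro y hy
    refine Finset.sum_eq_single_of_mem y (Finset.mem_filter.2 ⟨Finset.mem_univ _, hy, rfl⟩) ?_
    intro x hx hne
    obtain ⟨-, h1, h2⟩ := Finset.mem_filter.1 hx
    exact absurd (eq_of_mk_eq hPc hP h1 hy h2) hne
  have hfcl : IsClassFunction (H ⧸ P) f := by
    intro c d
    obtain ⟨h, rfl⟩ := QuotientGroup.mk_surjective d
    refine Finset.sum_bij (fun x _ => h⁻¹ * x * h) ?_ ?_ ?_ ?_
    · intro x hx
      obtain ⟨-, h1, h2⟩ := Finset.mem_filter.1 hx
      refine Finset.mem_filter.2 ⟨Finset.mem_univ _, ?_, ?_⟩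
      · have e : h⁻¹ * x * h = MulAut.conj h⁻¹ x := by rw [MulAut.conj_apply, inv_inv]
        rwa [e, MulEquiv.orderOf_eq]
      · rw [QuotientGroup.mk_mul, QuotientGroup.mk_mul, h2, QuotientGroup.mk_inv]
        group
    · intro x _ y _ hxy
      have : h⁻¹ * x * h = h⁻¹ * y * h := hxy
      simpa using this
    · intro x hx
      obtain ⟨-, h1, h2⟩ := Finset.mem_filter.1 hx
      refine ⟨h * x * h⁻¹, Finset.mem_filter.2 ⟨Finset.mem_univ _, ?_, ?_⟩, by group⟩
      · have e : h * x * h⁻¹ = MulAut.conj h x := by rw [MulAut.conj_apply]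
        rwa [e, MulEquiv.orderOf_eq]
      · rw [QuotientGroup.mk_mul, QuotientGroup.mk_mul, h2, QuotientGroup.mk_inv]
    · intro x _
      have := irr_conj ξ.2 x h⁻¹
      rw [inv_inv] at this
      exact this.symm
  -- expansion
  have hexp := classFunction_eq_sum hfcl
  have hzero : ∀ η : IrrCharacter (H ⧸ P), η ≠ θ → classInner f (η : H ⧸ P → ℂ) = 0 := by
    intro η hη
    have hnot : infl η ∉ blockOf M (infl θ : H → ℂ) := by
      intro hmem
      apply hη
      have h1 := ((S0941.result p M hM P hP ⟨0, by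
        rw [pow_zero, Subgroup.index_eq_one, Subgroup.centralizer_eq_top_iff_subset]
        exact hPc⟩).1 θ η).2 hmem
      have h2 := (S0914.result p M hM θ).1 hθ
      have h3 : η ∈ blockOf M (θ : H ⧸ P → ℂ) := h1
      rw [h2] at h3
      exact h3
    have horth := Blocks.Orthogonality.orthogonal_on_p_regular hM (blockOf M (infl θ : H → ℂ))
      (fun g => S0913.result p M hM _ ⟨_, rfl⟩ g) ξ (infl η) hξ hnot
    rw [Cfsg.Agent.Blocks.Basic.classInner_def]
    have h4 : ∑ g : H ⧸ P, f g * conj ((η : H ⧸ P → ℂ) g) =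
        ∑ x : H with ¬ p ∣ orderOf x, f (QuotientGroup.mk x) * conj ((η : H ⧸ P → ℂ) (QuotientGroup.mk x)) := by
      refine (sum_regular (p := p) hPc hP (fun c => f c * conj ((η : H ⧸ P → ℂ) c)) ?_).symm
      intro c hc
      have : f c = 0 := by
        refine Finset.sum_eq_zero fun x hx => ?_
        obtain ⟨-, h5, h6⟩ := Finset.mem_filter.1 hx
        exfalso
        apply h5
        rw [← h6] at hc
        exact hc.trans (orderOf_map_dvd (QuotientGroup.mk' P) x)
      show f c * _ = 0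
      rw [this, zero_mul]
    rw [h4]
    have h5 : ∑ x : H with ¬ p ∣ orderOf x, f (QuotientGroup.mk x) * conj ((η : H ⧸ P → ℂ) (QuotientGroup.mk x)) =
        ∑ᶠ x ∈ {x : H | ¬ p ∣ orderOf x}, (ξ : H → ℂ) x * conj ((infl η : H → ℂ) x) := by
      rw [finsum_mem_eq_finite_toFinset_sum _ (Set.toFinite _)]
      refine Finset.sum_congr ?_ fun x hx => ?_
      · ext x
        simp
      · have hx' : ¬ p ∣ orderOf x := by simpa using hx
        rw [hfv x hx', infl_apply]
    rw [h5, horth, mul_zero]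
  refine ⟨classInner f (θ : H ⧸ P → ℂ), fun y hy => ?_⟩
  rw [← hfv y hy]
  conv_lhs => rw [hexp]
  rw [Finset.sum_apply]
  rw [Finset.sum_eq_single θ]
  · rfl
  · intro η _ hη
    rw [hzero η hη]
    simp
  · intro h
    exact absurd (Finset.mem_univ _) h

end Cfsg.Agent.H854.Loc
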